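import Groth.Prelude.Def_PLie
import Mathlib.Algebra.Lie.Solvable
import Mathlib.Algebra.Lie.Engel
import Mathlib.Tactic.Abel
import Mathlib.Data.Nat.Prime.Basic

universe u v w

namespace Groth.Agent.PLieLib

variable {R : Type u} [CommRing R] {p : ℕ} [CharP R p]
variable {L : Type v} [LieRing L] [LieAlgebra R L] {L' : Type w} [LieRing L'] [LieAlgebra R L']

theorem map_bracketWord {ι : Type*} (f : L →ₗ⁅R⁆ L') (x : ι → L) (x₁ : L) (l : List ι) :
    f (PLie.bracketWord x x₁ l) = PLie.bracketWord (f ∘ x) (f x₁) l := by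
  induction l with
  | nil => rfl
  | cons i l ih => simp [ih]

theorem map_jacobson (f : L →ₗ⁅R⁆ L') (x₀ x₁ : L) :
    f (PLie.jacobson R p x₀ x₁) = PLie.jacobson R p (f x₀) (f x₁) := by
  have h : f ∘ PLie.pair x₀ x₁ = PLie.pair (f x₀) (f x₁) := by ext b; cases b <;> rfl
  simp [PLie.jacobson, map_bracketWord, h]

theorem bracketWord_zero {ι : Type*} (x : ι → L) (l : List ι) : PLie.bracketWord x 0 l = 0 := by
  induction l with
  | nil => rfl
  | cons i l ih => simp [ih]

@[simp] theorem jacobson_zero (x₀ : L) : PLie.jacobson R p x₀ (0 : L) = 0 := by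
  simp [PLie.jacobson, bracketWord_zero]

theorem pmap_bracket (φ : PLie.PMap R p L) (x y : L) :
    ⁅φ x, y⁆ = (LieAlgebra.ad R L x ^ p) y := by
  rw [← φ.ad_map]; rfl

theorem ad_pow_map (f : L →ₗ⁅R⁆ L') (x y : L) (n : ℕ) :
    f ((LieAlgebra.ad R L x ^ n) y) = (LieAlgebra.ad R L' (f x) ^ n) (f y) := by
  induction n generalizing y with
  | zero => simp
  | succ n ih => simp [pow_succ, ih]

theorem ad_iterate (φ : PLie.PMap R p L) (x : L) (n : ℕ) :
    LieAlgebra.ad R L (φ.toFun^[n] x) = LieAlgebra.ad R L x ^ (p ^ n) := by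
  induction n with
  | zero => simp
  | succ n ih => rw [Function.iterate_succ_apply', φ.ad_map, ih, ← pow_mul, pow_succ]

end Groth.Agent.PLieLib
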